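import Cfsg.Agent.Lib.JTwoPerm.Data

/-!
# The Hall-Janko group on a hundred points

* `jTwo` : a subgroup of `Equiv.Perm (Fin 100)`
* `natCard_jTwo` : its order is 604800
* `isSimpleGroup_jTwo` : it is simple
-/

set_option autoImplicit false
set_option maxRecDepth 4000

namespace Cfsg.Agent.JTwoPerm

open Cfsg.Agent.StabCert MulAction

/-- One point mapped by a packed table. -/
def img (T : ℕ) (i : Fin 100) : Fin 100 := Fin.ofNat 100 (look 7 T i)

theorem tables_ok : ((List.range 6).all fun k => tableOK 7 100 (tab.getD k 0) &&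
    tableOK 7 100 (tabInv.getD k 0) &&
    (List.range 100).all fun i => look 7 (tabInv.getD k 0) (look 7 (tab.getD k 0) i) == i) = true := by
  decide +kernel

theorem table_spec {k : ℕ} (hk : k < 6) {i : ℕ} (hi : i < 100) :
    look 7 (tab.getD k 0) i < 100 ∧ look 7 (tabInv.getD k 0) (look 7 (tab.getD k 0) i) = i := by
  have h := tables_ok
  simp only [tableOK, List.all_eq_true, Bool.and_eq_true, List.mem_range, Nat.blt_eq, beq_iff_eq] at h
  exact ⟨(h k hk).1.1 i hi, (h k hk).2 i hi⟩

theorem img_injective {k : ℕ} (hk : k < 6) : Function.Injective (img (tab.getD k 0)) := by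
  intro i j e
  obtain ⟨hi, hi'⟩ := table_spec hk i.isLt
  obtain ⟨hj, hj'⟩ := table_spec hk j.isLt
  have e' := congrArg Fin.val e
  simp only [img, Fin.val_ofNat, Nat.mod_eq_of_lt hi, Nat.mod_eq_of_lt hj] at e'
  exact Fin.ext (by rw [← hi', e', hj'])

/-- The six generating permutations; the identity beyond them. -/
noncomputable def gen (k : ℕ) : Equiv.Perm (Fin 100) :=
  if h : k < 6 then Equiv.ofBijective (img (tab.getD k 0))
    ⟨img_injective h, Finite.surjective_of_injective (img_injective h)⟩ else 1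

/-- Points by number. -/
def pt (i : ℕ) : Fin 100 := Fin.ofNat 100 i

theorem pt_val (x : Fin 100) : pt x = x := Fin.ext (Nat.mod_eq_of_lt x.isLt)

theorem pt_injOn : Set.InjOn pt {i | i < 100} := by
  intro i hi j hj e
  have := congrArg Fin.val e
  simpa [pt, Nat.mod_eq_of_lt hi, Nat.mod_eq_of_lt hj] using this

theorem sound : TablesSound (MonoidHom.id (Equiv.Perm (Fin 100))) gen pt 7 100 6 tab := by
  intro k hk i hi
  refine ⟨(table_spec hk hi).1, ?_⟩
  simp only [MonoidHom.id_apply, gen, dif_pos hk]
  show img (tab.getD k 0) (pt i) = pt _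
  simp only [img, pt, Fin.val_ofNat, Nat.mod_eq_of_lt hi]

/-- The group generated by the six permutations. -/
noncomputable def jTwo : Subgroup (Equiv.Perm (Fin 100)) := sub gen (List.range 6)

theorem chain_ok : chainOK 7 100 6 tab (List.range 100) [lev0, lev1, lev2, lev3] = true := by
  decide +kernel

theorem chain_gens : nextGens [lev0, lev1, lev2, lev3] = List.range 6 := by decide

theorem natCard_jTwo : Nat.card jTwo = 604800 := by
  have h := chain_spec (G := Equiv.Perm (Fin 100)) (ρ := MonoidHom.id _) sound pt_injOn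
    (fun β hβ => List.mem_range.1 hβ) (fun g _ hg => Equiv.ext fun x => by
      have := hg x (List.mem_range.2 x.isLt)
      rw [pt_val] at this
      simpa using this) _ chain_ok
  rw [chain_gens] at h
  rw [jTwo, h.2.1]
  decide +kernel

/-- The value of a word. -/
noncomputable def el (l : List ℕ) (hl : ∀ k ∈ l, k < 6) : jTwo :=
  ⟨wordEl gen l, wordEl_mem gen fun k hk => List.mem_range.2 (hl k hk)⟩

theorem el_apply (l : List ℕ) (hl : ∀ k ∈ l, k < 6) {i : ℕ} (hi : i < 100) :
    el l hl • pt i = pt (ev 7 tab l i) :=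
  (ev_spec sound l hl i hi).2

/-- The points reached by words agree with a list of points. -/
def orbitOK (r : ℕ) (ws : List (List ℕ)) (l : List ℕ) : Bool :=
  ws.all (fun w => w.all fun k => Nat.blt k 6) && (ws.map fun w => ev 7 tab w r) == l

theorem orbit_spec {r : ℕ} (hr : r < 100) {ws : List (List ℕ)} {l : List ℕ} (h : orbitOK r ws l = true)
    {i : ℕ} (hi : i ∈ l) : ∃ w ∈ ws, ∃ hw : ∀ k ∈ w, k < 6, el w hw • pt r = pt i := by
  simp only [orbitOK, Bool.and_eq_true, List.all_eq_true, Nat.blt_eq, beq_iff_eq] at h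
  rw [← h.2] at hi
  obtain ⟨w, hw, rfl⟩ := List.mem_map.1 hi
  exact ⟨w, hw, h.1 w hw, el_apply w (h.1 w hw) hr⟩

/-- The words fix the point `0`. -/
def fixOK (ws : List (List ℕ)) : Bool := ws.all fun w => ev 7 tab w 0 == 0

theorem transitive_ok :
    (orbitOK 0 lev0.words (lev0.words.map fun w => ev 7 tab w 0) &&
    (List.range 100).all fun i => (lev0.words.map fun w => ev 7 tab w 0).contains i) = true := by
  decide +kernel

theorem suborbit_ok :
    (orbitOK 1 suborbitA (List.range' 1 36) && fixOK suborbitA &&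
    (orbitOK 37 suborbitB (List.range' 37 63) && fixOK suborbitB)) = true := by
  decide +kernel

instance isPretransitive : IsPretransitive jTwo (Fin 100) := by
  have h := transitive_ok
  simp only [Bool.and_eq_true, List.all_eq_true, List.contains_iff_mem] at h
  refine MulAction.isPretransitive_iff_base (pt 0) |>.2 fun y => ?_
  obtain ⟨w, _, hw, e⟩ := orbit_spec (by norm_num) h.1 (h.2 y (List.mem_range.2 y.isLt))
  exact ⟨el w hw, by rw [e, pt_val]⟩

/-- A normal subgroup is trivial or transitive. -/
theorem normal_cases (N : Subgroup jTwo) [N.Normal] :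
    N = ⊥ ∨ orbit N (pt 0) = Set.univ := by
  have hB : IsBlock jTwo (orbit N (pt 0)) := IsBlock.orbit_of_normal _
  have h := suborbit_ok
  simp only [Bool.and_eq_true, fixOK, List.all_eq_true, beq_iff_eq] at h
  have closed : ∀ w (hw : ∀ k ∈ w, k < 6), ev 7 tab w 0 = 0 → ∀ x ∈ orbit N (pt 0),
      el w hw • x ∈ orbit N (pt 0) := by
    intro w hw hfix x hx
    obtain ⟨n, rfl⟩ := hx
    refine ⟨⟨el w hw * n * (el w hw)⁻¹, Subgroup.Normal.conj_mem inferInstance _ n.2 _⟩, ?_⟩
    show (el w hw * n * (el w hw)⁻¹ : jTwo) • pt 0 = el w hw • ((n : jTwo) • pt 0)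
    have e : el w hw • pt 0 = pt 0 := by rw [el_apply w hw (by norm_num), hfix]
    rw [mul_smul, mul_smul, inv_smul_eq_iff.2 e.symm]
  have whole : ∀ r ws l, orbitOK r ws l = true → (∀ w ∈ ws, ev 7 tab w 0 = 0) → r < 100 →
      pt r ∈ orbit N (pt 0) → ∀ i ∈ l, pt i ∈ orbit N (pt 0) := by
    intro r ws l hok hfix hr hmem i hi
    obtain ⟨w, hw, hw', e⟩ := orbit_spec hr hok hi
    exact e ▸ closed w hw' (hfix w hw) _ hmem
  have back : ∀ r ws l, orbitOK r ws l = true → (∀ w ∈ ws, ev 7 tab w 0 = 0) → r < 100 →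
      ∀ i ∈ l, pt i ∈ orbit N (pt 0) → pt r ∈ orbit N (pt 0) := by
    intro r ws l hok hfix hr i hi hmem
    obtain ⟨w, hw, hw', e⟩ := orbit_spec hr hok hi
    obtain ⟨n, hn⟩ := hmem
    refine ⟨⟨(el w hw')⁻¹ * n * el w hw', ?_⟩, ?_⟩
    · simpa using Subgroup.Normal.conj_mem inferInstance _ n.2 (el w hw')⁻¹
    · show ((el w hw')⁻¹ * n * el w hw' : jTwo) • pt 0 = pt r
      have e0 : el w hw' • pt 0 = pt 0 := by rw [el_apply w hw' (by norm_num), hfix w hw]
      rw [mul_smul, mul_smul, e0, show (n : jTwo) • pt 0 = pt i from hn, ← e, inv_smul_smul]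
  have hdvd := hB.ncard_dvd_card ⟨pt 0, mem_orbit_self _⟩
  rw [Nat.card_fin] at hdvd
  by_cases hA : pt 1 ∈ orbit N (pt 0)
  · by_cases hC : pt 37 ∈ orbit N (pt 0)
    · refine Or.inr (Set.eq_univ_of_forall fun x => ?_)
      have hx := x.isLt
      rcases Nat.eq_zero_or_pos x.val with h0 | h0
      · rw [show x = pt 0 from Fin.ext (by simp [pt, h0])]
        exact mem_orbit_self _
      · rw [← pt_val x]
        by_cases hle : x.val < 37
        · exact whole 1 _ _ h.1.1 h.1.2 (by norm_num) hA _ (List.mem_range'_1.2 ⟨h0, by omega⟩)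
        · exact whole 37 _ _ h.2.1 h.2.2 (by norm_num) hC _
            (List.mem_range'_1.2 ⟨by omega, by omega⟩)
    · exfalso
      have e : orbit N (pt 0) = ((Finset.univ.filter fun x : Fin 100 => x.val < 37 : Finset (Fin 100)) : Set (Fin 100)) := by
        ext x
        have hx := x.isLt
        simp only [Finset.coe_filter, Finset.mem_univ, true_and, Set.mem_ofPred_eq]
        refine ⟨fun hm => ?_, fun hlt => ?_⟩
        · by_contra hge
          rw [← pt_val x] at hm
          exact hC (back 37 _ _ h.2.1 h.2.2 (by norm_num) _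
            (List.mem_range'_1.2 ⟨by omega, by omega⟩) hm)
        · rcases Nat.eq_zero_or_pos x.val with h0 | h0
          · rw [show x = pt 0 from Fin.ext (by simp [pt, h0])]
            exact mem_orbit_self _
          · rw [← pt_val x]
            exact whole 1 _ _ h.1.1 h.1.2 (by norm_num) hA _ (List.mem_range'_1.2 ⟨h0, by omega⟩)
      rw [e, Set.ncard_coe_finset,
        show (Finset.univ.filter fun x : Fin 100 => x.val < 37).card = 37 from by decide +kernel] at hdvd
      omega
  · by_cases hC : pt 37 ∈ orbit N (pt 0)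
    · exfalso
      have e : orbit N (pt 0) = ((Finset.univ.filter fun x : Fin 100 => x.val = 0 ∨ 37 ≤ x.val : Finset (Fin 100)) : Set (Fin 100)) := by
        ext x
        have hx := x.isLt
        simp only [Finset.coe_filter, Finset.mem_univ, true_and, Set.mem_ofPred_eq]
        refine ⟨fun hm => ?_, fun hlt => ?_⟩
        · by_contra hge
          simp only [not_or, not_le] at hge
          rw [← pt_val x] at hm
          exact hA (back 1 _ _ h.1.1 h.1.2 (by norm_num) _
            (List.mem_range'_1.2 ⟨by omega, by omega⟩) hm)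
        · rcases hlt with h0 | h0
          · rw [show x = pt 0 from Fin.ext (by simp [pt, h0])]
            exact mem_orbit_self _
          · rw [← pt_val x]
            exact whole 37 _ _ h.2.1 h.2.2 (by norm_num) hC _
              (List.mem_range'_1.2 ⟨h0, by omega⟩)
      rw [e, Set.ncard_coe_finset,
        show (Finset.univ.filter fun x : Fin 100 => x.val = 0 ∨ 37 ≤ x.val).card = 64 from by decide +kernel] at hdvd
      omega
    · left
      have e : ∀ x ∈ orbit N (pt 0), x = pt 0 := by
        intro x hm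
        have hx := x.isLt
        by_contra hne
        have h0 : x.val ≠ 0 := fun h0 => hne (Fin.ext (by simp [pt, h0]))
        rw [← pt_val x] at hm
        by_cases hle : x.val < 37
        · exact hA (back 1 _ _ h.1.1 h.1.2 (by norm_num) _
            (List.mem_range'_1.2 ⟨by omega, by omega⟩) hm)
        · exact hC (back 37 _ _ h.2.1 h.2.2 (by norm_num) _
            (List.mem_range'_1.2 ⟨by omega, by omega⟩) hm)
      rw [Subgroup.eq_bot_iff_forall]
      intro n hn
      refine Subtype.ext (Equiv.ext fun x => ?_)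
      obtain ⟨g, rfl⟩ := exists_smul_eq jTwo (pt 0) x
      have h1 := e _ ⟨⟨g⁻¹ * n * g, by
        simpa using Subgroup.Normal.conj_mem inferInstance _ hn g⁻¹⟩, rfl⟩
      change (g⁻¹ * n * g : jTwo) • pt 0 = pt 0 at h1
      rw [mul_smul, mul_smul, inv_smul_eq_iff] at h1
      exact h1

theorem kill_ok : ((List.range 6).all fun k =>
    let e := kill.getD k ([], [])
    e.1.all (fun a => Nat.blt a 6) && e.2.all (fun a => Nat.blt a 6) &&
    (List.range 100).all fun i => ev 7 tab (e.1 ++ e.1 ++ e.1 ++ e.1 ++ e.1) i == i &&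
      (ev 7 tab (e.2 ++ e.2 ++ e.2 ++ e.2 ++ e.2) i == i &&
        ev 7 tab (e.1 ++ e.2) i == ev 7 tab [k] i)) = true := by
  decide +kernel

theorem wordEl_eq {l l' : List ℕ} (hl : ∀ k ∈ l, k < 6) (hl' : ∀ k ∈ l', k < 6)
    (h : ∀ i < 100, ev 7 tab l i = ev 7 tab l' i) : wordEl gen l = wordEl gen l' := by
  refine Equiv.ext fun x => ?_
  have e1 := (ev_spec sound l hl _ x.isLt).2
  have e2 := (ev_spec sound l' hl' _ x.isLt).2
  simp only [MonoidHom.id_apply, pt_val] at e1 e2
  rw [e1, e2, h _ x.isLt]

theorem isSimpleGroup_jTwo : IsSimpleGroup jTwo := by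
  have hcard := natCard_jTwo
  haveI : Nontrivial jTwo := Finite.one_lt_card_iff_nontrivial.1 (by omega)
  refine ⟨fun N hN => ?_⟩
  rcases normal_cases N with h | h
  · exact Or.inl h
  · refine Or.inr (eq_top_iff.2 ?_)
    haveI : IsPretransitive N (Fin 100) := MulAction.isPretransitive_iff_base (pt 0) |>.2 fun y => by
      obtain ⟨n, hn⟩ : y ∈ orbit N (pt 0) := h ▸ Set.mem_univ y
      exact ⟨n, hn⟩
    have h100 : 100 ∣ Nat.card N := by
      have := index_stabilizer_of_transitive N (pt 0)
      rw [Nat.card_fin] at this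
      exact this.symm.dvd.trans (Subgroup.index_dvd_card _)
    have hidx := N.index_mul_card
    rw [hcard] at hidx
    have hcop : Nat.Coprime N.index 5 := by
      refine ((Nat.Prime.coprime_iff_not_dvd (by norm_num)).2 ?_).symm
      rintro ⟨a, ha⟩
      obtain ⟨b, hb⟩ := h100
      rw [ha, hb] at hidx
      have : 500 * (a * b) = 604800 := by rw [← hidx]; ring
      omega
    have hmem : ∀ x : jTwo, x ^ 5 = 1 → x ∈ N := by
      intro x hx
      rw [← QuotientGroup.eq_one_iff]
      refine orderOf_eq_one_iff.1 (Nat.eq_one_of_dvd_coprimes hcop ?_ ?_)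
      · rw [Subgroup.index]
        exact orderOf_dvd_natCard _
      · exact orderOf_dvd_of_pow_eq_one (by rw [← QuotientGroup.mk_pow, hx, QuotientGroup.mk_one])
    have hgen : ∀ k < 6, ∀ hk : gen k ∈ jTwo, (⟨gen k, hk⟩ : jTwo) ∈ N := by
      intro k hk hmemk
      have := kill_ok
      simp only [List.all_eq_true, Bool.and_eq_true, List.mem_range, Nat.blt_eq, beq_iff_eq] at this
      obtain ⟨⟨ha, hb⟩, hall⟩ := this k hk
      generalize kill.getD k ([], []) = e at ha hb hall
      have pow5 : ∀ l (hl : ∀ a ∈ l, a < 6), (∀ i < 100, ev 7 tab (l ++ l ++ l ++ l ++ l) i = i) →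
          el l hl ^ 5 = 1 := by
        intro l hl he
        refine Subtype.ext ?_
        show wordEl gen l ^ 5 = (1 : Equiv.Perm (Fin 100))
        have := wordEl_eq (l := l ++ l ++ l ++ l ++ l) (l' := [])
          (fun a h => hl a (by simpa using h)) (by simp) (fun i hi => he i hi)
        simp only [wordEl_append] at this
        rw [show (wordEl gen []) = 1 from rfl] at this
        rw [← this]
        simp [pow_succ, mul_assoc]
      have h1 := hmem _ (pow5 e.1 ha fun i hi => (hall i hi).1)
      have h2 := hmem _ (pow5 e.2 hb fun i hi => (hall i hi).2.1)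
      have heq : (⟨gen k, hmemk⟩ : jTwo) = el e.1 ha * el e.2 hb := by
        refine Subtype.ext ?_
        show gen k = wordEl gen e.1 * wordEl gen e.2
        rw [← wordEl_append, wordEl_eq (l := e.1 ++ e.2) (l' := [k])
          (fun a h => (List.mem_append.1 h).elim (ha a) (hb a))
          (fun a h => by rw [List.mem_singleton.1 h]; exact hk) fun i hi => (hall i hi).2.2]
        simp [wordEl]
      rw [heq]
      exact N.mul_mem h1 h2
    intro x _
    obtain ⟨x, hx⟩ := x
    refine Subgroup.closure_induction (p := fun y hy => (⟨y, hy⟩ : jTwo) ∈ N) ?_ N.one_mem ?_ ?_ hx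
    · rintro _ ⟨k, hk, rfl⟩
      exact hgen k (List.mem_range.1 hk) _
    · intro a b ha hb ia ib
      exact N.mul_mem ia ib
    · intro a ha ia
      exact N.inv_mem ia

end Cfsg.Agent.JTwoPerm
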