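import Cfsg.Agent.EqLemmas
import Cfsg.Agent.Lib.StabCert.Chain

/-!
# The Hall-Janko group on a hundred points: tables

The action of six elements of the automorphism group of the Hall-Janko graph, as packed tables, with a
stabiliser chain for the group they generate (orbit lengths 100, 36, 42, 4).
-/

set_option autoImplicit false

namespace Cfsg.Agent.JTwoPerm

open Cfsg.Agent.StabCert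

/-- Tables of the six elements. -/
def tab : List ℕ := [
  0x98f985ea98ecae4cede556c9e950676ab5b70d622a8b3616068ae3ad65761d36385cce7b2ac40518a4d16eb2fafaeeae464aa644f96fe0a1024d1970c54d0e1850c080828889486c5a2246469f2c090070a0ce1d1e78800,
  0xb316dc6ab26556a1325cfc4ed53178d94b37b016326f055b4857eea55aa18265c9d7ba7111f3572fe1d3b5866d79d1ee5ea947052c76240304911150a24c942c34518165ce9310780a03630786341ce1220447214610f80,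
  0xc0fc54539096beb6606254154a2f9e69ba39621aaaa72420f8e571b0006f10e82a61d8a48a75a3a1c9b66752f8d64b84a80292e03a05de4c4e7e31974ae8b1bceebb821650d69b001260c4a216c22eeb969208ca5814f3d,
  0xc78b0d7b16ed59bd76e5fc10dcb87cf5bbc84fdaba8905db6811634bad3e5479d4e9509332ad4a3226b460b14335ead3b25ca93315aa529c1e450a030789a42068a9f1c48c943a5911b465c60d162848806082840e18080,
  0x9aa61d04f05951c4fb04c8109ead8a9b1c87f859c98956a4658c2bde753d5db54e5ab64b7e3ce95698afbb7142eb165a3ca4ee9b7712eb1e304d00f4244e1a485481b068ca223a64b1f24202090a08517163470c0e18080,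
  0x8d6ac3c92c1751a52962a895b1adb32ded37e95b2780aefcdc105cb75ee2adb995d8b3c352ece7ca5aba8ea2e328715a50c4ee45e9e9a1143288b11423ce12485519d2e40f13366101f34143091028103163470c0e10080]

/-- Tables of their inverses. -/
def tabInv : List ℕ := [
  0xbcd9f48638212da14aeb95f46c5f8155a5450f25634ee9aa98ab25cd83252b84d89dd9b4b9ecf675e747a70dfe161722328d31537ad6d593424120918082052474719402cf1a443ca81067069b2258a18107c3970c29180,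
  0x4f5d9298cb22adc2cf1a66172fab68a155bb0bd8dab376f255d8313a6b1e54e6ce67d3acf1bbb9749c48a132a417afe1cd93568c27d0222206842100248a891e2ce982c6d01c28203071a14d0e2e64f131430f82488c880,
  0x8b045e3626c4a9b6e0b3c3252b3296ecea7a6e49a49e125068e8700d7b79f92c570025347c418a2d268766bce44a8bae833d31f2c4642c2aa0e8ad74405bdf854905a4c323556a38297910185915856ce6c3c14950455c3,
  0xc78b0d7b16ed59bd76e5fc10dcb87cf5bbc84fdaba8905db6811634bad3e5479d4e9509332ad4a3226b460b14335ead3b25ca93315aa529c1e450a030789a42068a9f1c48c943a5911b465c60d162848806082840e18080,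
  0xa36e75975119b280d972f8a9654952aee6084e31d84cde65073229cbc35af579f6aaac550df2750f1ead9b75ac668c2a4782ff131bf49d9b2c50fa1209099d30709231044d15443cf1940143040e2460e060858d2e28080,
  0xaaaddc792a1cb1818a9e17d5a0baa16ee2c4ee243fa56afa9678d7575e9634b9ede8e054d22c28935aad78c1ede8776a599561b32989a71b3288f912054c1d263d1922e84d2428710163c143040e2860b06347021024080]

/-- Level 0 of the chain. -/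
def lev0 : Lev where
  b := 0
  gens := [0, 1, 2, 3, 4, 5]
  words := [
    [], [2], [0, 2], [1, 2], [2, 2], [3, 2], [4, 2], [5, 2],
    [0, 0, 2], [1, 0, 2], [2, 0, 2], [3, 0, 2], [4, 0, 2], [5, 0, 2], [0, 1, 2], [2, 1, 2],
    [1, 2, 2], [3, 2, 2], [4, 2, 2], [0, 3, 2], [1, 3, 2], [2, 3, 2], [4, 3, 2], [5, 3, 2],
    [0, 4, 2], [2, 4, 2], [3, 4, 2], [0, 5, 2], [3, 5, 2], [5, 5, 2], [1, 0, 0, 2], [2, 0, 0, 2],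
    [4, 0, 0, 2], [5, 0, 0, 2], [0, 1, 0, 2], [1, 1, 0, 2], [2, 1, 0, 2], [3, 1, 0, 2], [1, 2, 0, 2], [2, 2, 0, 2],
    [3, 2, 0, 2], [2, 3, 0, 2], [5, 3, 0, 2], [0, 4, 0, 2], [1, 4, 0, 2], [4, 4, 0, 2], [5, 4, 0, 2], [0, 5, 0, 2],
    [1, 5, 0, 2], [5, 5, 0, 2], [1, 0, 1, 2], [2, 0, 1, 2], [5, 0, 1, 2], [2, 2, 1, 2], [2, 1, 2, 2], [1, 3, 2, 2],
    [2, 4, 2, 2], [2, 0, 3, 2], [2, 1, 3, 2], [3, 1, 3, 2], [1, 2, 3, 2], [4, 2, 3, 2], [2, 4, 3, 2], [0, 5, 3, 2],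
    [1, 5, 3, 2], [1, 0, 4, 2], [2, 0, 4, 2], [0, 2, 4, 2], [3, 2, 4, 2], [5, 2, 4, 2], [4, 3, 4, 2], [2, 0, 5, 2],
    [2, 3, 5, 2], [5, 3, 5, 2], [4, 5, 5, 2], [0, 1, 0, 0, 2], [0, 2, 0, 0, 2], [2, 2, 0, 0, 2], [0, 0, 1, 0, 2], [1, 0, 1, 0, 2],
    [2, 0, 1, 0, 2], [2, 1, 1, 0, 2], [2, 1, 2, 0, 2], [1, 2, 2, 0, 2], [5, 5, 3, 0, 2], [2, 0, 5, 0, 2], [2, 2, 0, 1, 2], [4, 2, 0, 1, 2],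
    [5, 2, 0, 1, 2], [5, 2, 1, 2, 2], [2, 2, 4, 2, 2], [0, 2, 1, 3, 2], [1, 2, 1, 3, 2], [4, 2, 1, 3, 2], [5, 1, 2, 3, 2], [2, 4, 2, 3, 2],
    [5, 4, 2, 3, 2], [2, 1, 0, 4, 2], [1, 5, 2, 4, 2], [1, 2, 3, 5, 2]]
  cert := [
    (0, [0]), (2, []), (8, []), (14, []), (15, [0, 4, 5, 4, 5, 3]), (19, []),
    (24, []), (27, []), (11, [1, 1, 5, 4, 3]), (34, []), (6, [0, 3, 0, 5, 5, 3, 5, 5]), (5, [0, 0, 5, 4, 5, 4, 3, 5, 5]),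
    (43, []), (47, []), (20, [1, 1, 1, 3, 5, 3, 4, 5]), (45, [0, 3, 0, 0, 5, 3, 4, 3, 5, 5, 5]), (29, [1, 3, 0, 4, 4, 3, 5]), (35, [0, 4, 1, 0, 3, 5, 3, 5, 5]),
    (48, [1, 3, 0, 4, 4, 3, 5]), (55, [1, 1, 4, 3, 5]), (50, [1, 1, 3, 5, 4]), (41, [0, 1, 1, 4, 3, 5, 3, 5, 5, 5]), (40, [0, 3, 0, 3, 5, 4, 5, 5, 5]), (63, []),
    (44, [1, 0, 5, 5, 4, 3, 5, 5]), (67, []), (52, [0, 1, 3, 0, 4, 3, 5, 3, 4, 5, 5, 5]), (53, [0, 0, 1, 5, 5, 4, 3, 5]), (30, [5, 5]), (49, [1, 1, 1, 4, 5, 4, 3, 5]),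
    (75, []), (76, []), (33, [0, 1, 3, 0, 4, 4, 5, 4, 5, 5, 5]), (36, [3, 1, 3, 4, 5, 5, 5]), (78, []), (23, [0, 3, 0, 4, 3, 5, 5, 3, 5, 5]),
    (59, [0, 0, 0, 4, 3, 5, 3, 5]), (70, [1, 0, 4, 5, 4, 5, 3, 5, 5]), (37, [5, 4, 3, 4, 3, 5, 5]), (58, [0, 3, 0, 4, 3]), (7, [1, 0, 4, 5, 3, 5, 5, 5]), (54, [4, 1, 0, 5, 5, 3]),
    (32, [1, 1, 0, 3, 4, 3]), (74, [0, 1, 0, 4, 5, 5]), (13, [1, 1, 1, 4, 5, 4, 5, 5, 5]), (84, [3, 0, 1, 3, 5, 4, 3, 5]), (73, [0, 3, 0, 4, 5, 3, 5, 5, 5]), (77, [0, 3, 0, 4, 3, 4]),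
    (26, [1, 1, 0, 4, 4, 3, 5, 5]), (18, [0, 1, 5, 5, 3, 5, 5]), (9, [0, 0, 4, 4, 5, 4, 5]), (62, [0, 1, 5, 4, 5, 4, 3, 5, 5, 5]), (16, [0, 5, 5, 4, 3, 5, 5, 5]), (81, [1, 0, 0, 4]),
    (51, [3, 0, 1, 3, 5, 5, 3]), (1, [3, 0, 0, 1, 5, 3, 4, 3]), (25, [0, 0, 1, 0, 5, 3, 5, 3, 4, 5, 5, 5]), (39, [5, 1, 0, 0, 5, 4, 5, 4, 5]), (91, []), (46, [3, 0, 0, 4, 4, 5, 4, 5, 5]),
    (60, [3, 0, 4, 3, 4, 5, 5]), (88, [4, 0, 1, 4, 5, 3, 5]), (66, [0, 3, 0, 5, 4, 3, 4, 3, 5, 5, 5]), (12, [1, 0, 3, 4, 3, 4, 3]), (28, [4, 1, 0, 3, 5, 5, 3, 5, 5]), (31, [0, 3, 1, 4, 4, 5, 3, 5, 5, 5]),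
    (68, [0, 0, 0, 5, 5, 4, 3, 5]), (95, [3, 0, 0, 3, 5, 4, 3, 5, 5, 5]), (21, [0, 1, 1, 5, 4, 5, 3]), (85, [1, 3, 0, 3, 4, 3, 4, 3, 5, 5]), (64, [1, 1, 5, 4, 3, 5, 5]), (82, [0, 1, 3, 0, 4, 3, 4]),
    (87, [1, 1, 4, 3, 5, 5, 3, 5]), (42, [0, 1, 3, 0, 5, 4, 5, 4, 3]), (17, [1, 3, 4, 3, 5, 5]), (38, [4, 3, 4, 3]), (4, [4, 1, 3]), (10, [0, 1, 1, 4, 5, 3, 4, 5, 5, 5]),
    (3, [3, 5, 3]), (22, [3, 0, 0, 5, 3, 5, 3, 4]), (89, [4, 1, 5, 4, 3, 4, 3]), (79, [0, 1, 1, 5, 4, 3]), (86, [5, 3, 1, 3, 5, 5, 3]), (69, [0, 1, 0, 5, 4, 5, 3, 5, 5, 5]),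
    (65, [1, 1, 1, 5, 5, 4, 3, 5, 5, 5]), (90, [0, 1, 1, 4, 5, 5, 3]), (57, [0, 4, 1, 0, 5, 4, 5, 4, 5, 5]), (83, [0, 0, 1, 4, 4, 4, 5, 3]), (93, [5, 4, 1, 0, 4, 4, 4, 5, 3, 5, 5, 5]), (96, [1, 1, 0, 5, 3, 4, 3]),
    (94, [1, 4, 3, 5]), (71, [0, 0, 1, 0, 4, 5, 4]), (56, [1, 3, 4, 3, 4, 3, 5, 5]), (98, [3, 0, 0, 4, 4, 5, 3]), (72, [0, 4, 5, 4, 5]), (99, [0, 3, 0, 0, 5, 4, 3, 5]),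
    (61, [4, 0, 1, 3, 5, 5, 4, 3, 5, 5]), (92, [3, 0, 0, 1, 3, 4, 3, 4, 3, 5, 5, 5]), (80, [4, 1, 4, 5, 5, 3]), (97, [1, 0, 4, 4, 5, 4, 5, 5, 5]), (0, [1]), (3, []),
    (9, []), (10, [0, 1, 1, 3, 4, 3, 4, 3]), (16, []), (20, []), (4, [4, 1, 0, 0, 3, 5, 5, 4, 3]), (26, [1, 0, 3, 4, 3, 4, 3, 5, 5]),
    (30, []), (35, []), (38, []), (33, [0, 1, 3, 0, 4, 4, 5, 4, 3, 5]), (44, []), (48, []),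
    (50, []), (34, [1, 3, 0, 5, 4, 5]), (29, [5, 3, 1, 5, 4, 5, 5]), (55, []), (52, [4, 0, 3, 0, 4, 3, 4, 3, 5, 5]), (32, [0, 1, 0, 4, 3, 5, 5, 3, 5, 5]),
    (40, [1, 0, 0, 3, 5, 5, 5]), (60, []), (8, [1, 1, 0, 4, 4, 3, 5, 5]), (64, []), (65, []), (39, [1, 5, 4, 3, 4, 3, 5, 5, 5]),
    (45, [1, 0, 4, 5, 4, 5, 3, 5, 5]), (11, [3, 0, 0, 4, 3, 5, 3, 4, 5, 5]), (5, [4, 1, 0, 5, 3, 5, 5, 5]), (17, [1, 3, 0, 3, 5, 5, 4, 3, 5]), (1, [0, 0, 4, 4, 5, 4, 5, 5, 5]), (59, [4, 1, 0, 4, 5, 5, 3, 5]),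
    (15, [0, 4, 1, 0, 4, 3, 4, 3, 5, 5, 5]), (74, [5, 3, 5, 5, 5]), (79, []), (42, [0, 3, 0, 4]), (46, [1, 3, 0, 3, 5, 3, 5, 5, 5]), (77, [5, 4, 1, 0, 3, 5, 3, 4]),
    (22, [0, 1, 0, 4, 5, 4, 5, 3, 5, 5]), (83, []), (49, [0, 1, 0, 3, 5]), (25, [3, 0, 4, 4, 5, 4, 5, 5, 5]), (47, [0, 3, 0, 4, 5, 5]), (37, [0, 1, 0, 4]),
    (28, [0, 1, 3, 0, 5, 4, 5, 4, 3, 5, 5]), (73, [0, 3, 0, 4, 3, 5, 5, 3, 5, 5]), (84, [4, 1, 0]), (23, [0, 0, 4, 4, 5, 4, 3, 5]), (76, [0, 3, 0, 4, 3, 5]), (12, [1, 0, 4, 5, 4, 3, 5, 5]),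
    (63, [4, 1, 0, 3, 5, 3, 5, 5]), (61, [0, 4, 1, 4, 3, 5, 3, 5, 5, 5]), (31, [0, 0, 1, 5, 4, 3, 4, 3, 5, 5, 5]), (7, [0, 1, 1, 5, 4, 3]), (71, [5, 3, 1, 4, 3, 5, 3, 4, 5, 5]), (75, [0, 1, 4, 5, 4, 5, 3]),
    (67, [4, 1, 3, 5, 5, 3]), (57, [4, 1, 0, 0, 4, 3, 5, 3]), (92, []), (43, [1, 1, 5, 4, 5, 3]), (87, [4, 0, 3, 0, 5, 4, 5, 4]), (68, [3, 0, 0, 4, 3, 4, 3, 5, 5, 5]),
    (93, [0, 0, 1, 0, 5]), (13, [3, 5, 5, 3, 5, 5]), (2, [0, 1, 3, 0, 4, 4, 5, 4, 3, 5, 5, 5]), (53, [1, 4, 4, 5, 4]), (95, [0, 3, 0, 5, 4, 5]), (72, [1, 0, 0, 4, 3, 5, 3, 5, 5, 5]),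
    (86, [1, 0, 4, 4, 3, 5, 5]), (98, []), (19, [0, 0, 5, 4, 5, 4, 3, 5, 5]), (41, [1, 1, 1, 5, 4, 5, 4, 3]), (99, []), (24, [1, 1, 5, 4, 3]),
    (36, [0, 4, 1, 3, 4, 5]), (6, [1, 1, 0, 3, 4, 3, 5, 5]), (78, [1, 1, 3, 4, 3, 4, 3, 5]), (18, [3, 0, 0, 4, 4, 5, 4, 3]), (14, [1, 1, 0, 4, 4, 5, 3]), (81, [0, 0, 0, 3, 4, 3]),
    (58, [0, 0, 4, 5, 4, 5, 3, 5]), (70, [4, 0, 1, 4, 3, 5, 3, 4, 5, 5]), (85, [0, 3, 0, 4, 3, 4, 5]), (96, [0, 1, 0, 4, 3, 5, 5]), (27, [1, 1, 0, 4, 4, 5, 3]), (94, [1, 0, 4, 3, 4, 3]),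
    (80, [0, 0, 0, 5, 4, 3, 5]), (69, [0, 1, 3, 0, 5, 4, 5, 5]), (97, [0, 1, 0, 3, 4, 3, 5]), (66, [5, 1, 0, 0, 4, 4, 5, 4, 5, 5, 5]), (91, [3, 0, 0, 1, 3, 5, 5, 3, 5]), (82, [1, 3, 0, 3, 5, 5, 3, 5, 5]),
    (51, [0, 4, 1, 0, 5, 4, 5, 4, 5]), (21, [0, 1, 3, 0, 5, 4, 5, 4, 3, 5]), (88, [0, 0, 4, 3, 5, 5, 3, 5, 5]), (56, [1, 1, 0, 3, 5, 4, 3, 5, 5]), (54, [1, 0, 0, 4, 5, 3]), (90, [3, 0, 0, 1, 3, 5, 4, 3, 5, 5, 5]),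
    (62, [5, 1, 0, 0, 4, 3, 5, 5]), (89, [0, 3, 0, 5, 3, 4, 3, 5, 5, 5]), (1, []), (4, []), (10, []), (15, []),
    (0, []), (21, []), (25, []), (27, [0, 1, 0, 5, 3, 5, 5]), (31, []), (36, []),
    (39, []), (41, []), (12, [4, 1, 0, 0, 4, 5, 3, 5, 5, 5]), (16, [0, 0, 1, 0, 4, 5, 4, 5, 3, 5, 5, 5]), (51, []), (53, []),
    (54, []), (11, [4, 1, 4, 5, 3]), (56, []), (57, []), (58, []), (55, [1, 4, 5, 3, 4]),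
    (62, []), (37, [1, 1, 0, 4, 3, 5, 5, 3, 5, 5, 5]), (66, []), (26, [0, 1, 3, 0, 5, 4, 5, 4]), (6, [0, 1, 0, 4, 4, 3, 5, 5, 5]), (71, []),
    (72, []), (9, [5, 3, 1, 4, 5, 4, 5, 3, 5]), (23, [1, 0, 5, 4, 3, 4, 3, 5, 5]), (77, []), (33, [3, 1, 4, 5, 4, 5, 3, 5, 5]), (67, [3, 1, 1, 0, 4, 5, 3, 4, 5, 5]),
    (80, []), (81, []), (29, [3, 1, 1, 0, 5, 3, 4, 5, 5, 5]), (30, [0, 4, 4, 5, 4, 5, 5]), (82, []), (2, []),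
    (76, [0, 0, 3]), (17, [3, 1, 1, 0, 4, 3, 4, 3, 5, 5, 5]), (46, [0, 3, 1, 4, 5, 5, 3, 5, 5, 5]), (20, [4, 1, 4, 5, 3, 5, 5, 5]), (69, [3, 0, 0, 4, 3, 5, 5, 3, 5, 5]), (28, [1, 1, 1, 4, 4, 3, 5, 5, 5]),
    (63, [4, 0, 3, 0, 4, 3, 5]), (85, []), (24, [5, 1, 0, 0, 3, 5]), (49, [0, 0, 5, 3, 4, 5, 5, 5]), (40, [4, 5, 3, 4]), (86, []),
    (78, [1, 1, 1, 5, 3, 4]), (3, []), (13, [0, 3, 0, 0, 4, 5, 3, 5, 5]), (5, [0, 4, 1, 0, 5, 3, 4, 3, 5, 5, 5]), (90, []), (75, [1, 3, 5, 5, 4, 3, 5, 5]),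
    (43, [0, 4, 1, 4, 5, 3, 5]), (87, [3, 0, 0, 1, 4, 5, 4, 5, 3, 5, 5, 5]), (52, [0, 0, 1, 0, 5, 3, 5]), (95, []), (92, [1, 1, 0, 5, 3, 4, 3]), (42, [0, 0, 0, 3, 5, 4, 5, 5]),
    (68, [0, 4, 1, 0, 5, 3, 5, 5, 4, 3, 5, 5]), (97, []), (48, [1, 1, 0, 4, 4, 4, 5, 3, 5, 5, 5]), (32, [4, 1, 0, 0, 3, 4, 3, 4, 3, 5]), (74, [1, 3, 0, 5, 4, 5, 4, 5, 5, 5]), (73, [0, 3, 1, 5, 3, 4]),
    (70, [5, 3, 1, 4, 3]), (7, [3, 0, 1, 4, 5, 5, 5]), (45, [4, 0, 3, 0, 4, 3, 5, 3, 5, 5, 5]), (44, [0, 0, 1, 5, 3, 4, 3, 5, 5]), (64, [4, 1, 0, 5, 4, 5, 3, 5]), (19, [3, 0, 4, 4, 5, 4, 3, 5]),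
    (50, [3, 1, 5, 5, 3, 5]), (8, []), (60, [0, 4, 5, 4]), (79, [0, 4, 3, 5, 5, 3]), (93, [0, 3, 0, 5, 3, 5, 5, 4, 3, 5]), (99, [3, 0, 1, 5, 5, 5]),
    (83, [0, 3, 1, 4, 5, 4, 5, 5, 5]), (38, [4, 0, 1, 4, 3, 5, 3, 4, 5, 5, 5]), (61, [3, 1, 1, 0, 4, 3, 4, 5, 5]), (98, [0, 3, 1, 4, 5, 3, 5, 5, 5]), (14, []), (94, [0, 3, 0, 4, 5, 4, 5, 3, 5]),
    (89, [1, 3, 5, 5, 3, 5, 5]), (91, [0, 0, 0, 4, 3, 4, 5, 5]), (18, []), (88, [3, 1, 5, 4, 3, 5]), (22, [1, 4, 5, 4, 3, 5, 5, 5]), (34, [0, 0, 1, 4, 3, 4, 5, 5, 5]),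
    (59, [5, 3, 5]), (84, [0, 1, 1, 5, 4, 5, 4, 3, 5]), (65, [0, 3, 1, 4, 3, 5, 5]), (96, [0, 3, 0, 5, 3, 5, 3, 4, 5, 5]), (47, [4, 0, 3, 0, 5, 3, 5, 5, 4, 3, 5, 5]), (35, [3, 0, 0, 1, 3, 5]),
    (0, [3]), (5, []), (11, []), (3, [5, 5]), (17, []), (1, []),
    (26, []), (28, []), (27, [0, 3, 0, 4, 5, 3, 5, 5, 5]), (37, []), (40, []), (2, []),
    (38, [0, 1, 1, 3, 4, 3, 4, 3, 5, 5]), (19, [4, 1, 0]), (46, [3, 0, 0, 5, 4, 5, 4]), (45, [1, 3, 0, 3, 5, 4, 5, 5, 5]), (35, [5, 3, 1, 4, 5, 4, 5, 3, 5]), (4, []),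
    (32, [0, 3, 1, 5, 4, 5, 4, 3, 5]), (13, [1, 1, 0, 5, 4, 3, 4, 3, 5]), (59, []), (21, [4, 1, 0, 0, 3]), (36, [1, 3, 0, 4, 3, 5, 3, 4]), (52, [3, 0, 1, 3, 5, 4, 3, 5]),
    (55, [0, 4, 1, 0, 4, 5, 5, 3, 5, 5, 5]), (68, []), (6, []), (8, [1, 1, 5, 4, 5, 3]), (7, []), (47, [1, 0, 4, 5, 4, 3]),
    (44, [3, 0, 0, 4, 3, 5, 3, 4]), (31, [4, 1, 0, 4, 5, 5, 3, 5, 5, 5]), (18, [0, 1, 3, 5, 5]), (33, [5, 3, 5, 5, 5]), (34, [3, 5, 5, 3]), (16, [3, 1, 1, 0, 5, 3, 4, 5, 5, 5]),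
    (22, [0, 1, 1, 3, 5, 5, 3, 5, 5]), (9, []), (12, [3, 0, 0, 3, 4, 3, 5, 5]), (39, [3, 0, 5, 4, 5, 3, 5]), (10, []), (41, [3, 0, 4, 5, 4, 5, 3]),
    (42, [3, 0, 0, 4, 4, 5, 4]), (43, [5, 3, 5, 5, 5]), (30, [3, 0, 0, 4, 3, 5, 3, 4]), (15, [0, 0, 4, 3, 5, 3]), (14, [3, 0, 0, 5, 3, 5, 3, 4]), (29, [1, 0, 5, 5, 4, 3, 5, 5]),
    (76, [0, 3, 1, 3, 4, 5]), (65, [3, 0, 0, 4, 4, 5, 4, 5, 5]), (50, [3, 0, 0, 4, 4, 5, 4]), (51, [0, 0, 0, 3, 5, 4]), (23, [1, 1, 5, 4, 3]), (75, [4, 0, 1, 4, 5, 4, 5, 3, 5, 5]),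
    (54, [4, 4, 3, 5, 5, 5]), (24, [0, 4, 1, 5, 3, 5, 5]), (88, [5, 3, 1, 3, 4, 3, 4, 3, 5, 5, 5]), (90, [4, 1, 0, 4, 4, 3]), (72, [1, 5, 4]), (20, []),
    (85, [1, 1, 0, 4, 4, 5, 3, 5, 5, 5]), (86, [0, 0, 1, 0, 3, 4, 5, 5, 5]), (82, [0, 3, 0, 0, 4, 5, 4, 3, 5, 5, 5]), (84, [1, 0, 4, 5, 4, 3, 5, 5]), (74, [1, 0, 3, 4, 3, 4, 3, 5, 5]), (49, [3, 0, 0, 4, 3, 5, 3, 4, 5, 5]),
    (66, [5, 4, 5, 4, 5, 5]), (71, [1, 0, 5, 3, 5, 3, 4]), (25, []), (92, [3, 0, 0, 4, 4, 5, 4, 3]), (78, [0, 1, 3, 0, 4, 3, 5, 3, 4, 5, 5, 5]), (67, [1, 3, 0, 3, 5, 4, 3, 5, 5, 5]),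
    (58, [4, 1, 5, 3, 5, 5, 4, 3, 5]), (79, [3, 0, 0, 5, 3, 5, 3, 4, 5, 5]), (64, [0, 0, 4, 4, 5, 4, 5]), (53, [0, 0, 1, 4, 5, 4, 3, 5, 5, 5]), (48, [3, 0, 1, 5]), (81, [4, 1, 0, 4, 5, 3]),
    (70, [1, 1, 1, 5, 5, 4, 3, 5]), (73, [3, 0, 0, 5, 4, 5, 4, 5, 5]), (80, [1, 3, 0, 4, 5, 4]), (77, [0, 4, 1, 4, 4, 3]), (62, [0, 1, 4, 5, 4, 5]), (98, [1, 0, 5, 3, 5, 3, 4, 5, 5]),
    (63, [1, 0, 5, 5, 4, 3]), (60, [5, 4, 1, 0, 5, 3, 5, 5, 5]), (61, [1, 1, 1, 3, 5, 5, 4, 3, 5, 5, 5]), (99, [0, 0, 0, 3, 4, 3, 4, 3]), (56, [0, 4, 1, 4, 4, 5, 4, 5, 5]), (94, [0, 4, 5, 4]),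
    (57, [1, 0, 0, 3, 5, 5, 3, 5]), (91, [4, 1, 5, 3, 5, 5, 4, 3]), (69, [0, 0, 4, 4, 5, 4]), (93, [4, 1, 0, 0]), (89, [1, 5, 4, 5, 5]), (95, [3, 5, 5, 3, 5, 5, 5]),
    (96, [3, 1, 1, 0, 5, 4, 5, 5]), (97, [5, 1, 0, 0, 4, 5, 5, 5]), (83, [1, 5, 3, 5, 5]), (87, [3, 0, 0, 4, 3, 5, 5, 3, 5, 5]), (0, [4]), (6, []),
    (12, []), (8, [0, 1, 3, 0, 4, 4, 5, 4, 5]), (18, []), (22, []), (7, [1, 1, 0, 4, 4, 3]), (28, [1, 1, 0, 4, 4, 3]),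
    (32, []), (2, [3, 0, 1, 3, 5, 4, 3, 5]), (34, [3, 0, 0, 5, 3, 5, 5]), (1, [0, 1, 0, 4]), (45, []), (15, [0, 0, 4, 3, 5, 3]),
    (38, [0, 3, 0, 0, 4, 4, 3, 5]), (29, [3, 0, 3, 4, 3, 4, 3]), (43, [0, 4, 1, 5, 3, 5, 5]), (44, [3, 0, 0, 1, 4, 5, 5, 3, 5, 5]), (27, [0, 4, 1, 0, 5, 4, 5, 4, 5, 5, 5]), (9, [3, 0, 1, 5, 4, 5, 5, 5]),
    (19, [1, 1, 1, 4, 5, 4, 3, 5, 5, 5]), (61, []), (23, [1, 1, 0, 4, 4, 5, 3, 5, 5]), (52, [0, 0, 4, 4, 5, 4, 5, 5, 5]), (53, [4, 1, 0, 5, 3, 5, 3, 4, 5, 5]), (68, [4, 3, 5, 5, 3]),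
    (70, []), (35, [3, 5, 3]), (64, [0, 3, 0, 4, 3, 5, 5, 3, 5, 5]), (74, []), (40, [4, 1, 4, 5]), (17, [1, 1, 3, 5, 3, 4, 5]),
    (24, [0, 0, 5, 4, 5, 4, 3, 5, 5]), (55, [1, 3, 0, 3, 5, 5, 4, 3, 5, 5, 5]), (4, [4, 1, 3, 4, 3, 5, 5, 5]), (75, [3, 5, 5, 3, 5, 5]), (37, [5, 1, 0, 0, 4, 5, 4, 5, 3]), (63, [4, 1, 0, 5, 3, 5]),
    (79, [1, 1, 5, 3, 5, 5, 5]), (62, [4, 0, 1, 3, 5, 4, 3, 5, 5, 5]), (33, [4, 4, 4, 5, 3, 5, 5, 5]), (56, [0, 1, 4, 3, 5, 3, 4, 5, 5, 5]), (26, [0, 1, 0, 4]), (3, [1, 0, 4, 5, 4, 3, 5, 5]),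
    (30, [3, 0, 0, 5, 4, 5, 4, 5, 5]), (77, [1, 4, 5, 4, 3, 5]), (81, [4, 0, 3, 0, 4, 4, 3, 5]), (46, [1, 1, 1, 5, 5, 4, 3, 5, 5, 5]), (11, [0, 3, 0, 4, 3, 5, 3]), (47, [3, 0, 0, 4, 3, 5, 3, 4]),
    (36, [0, 1, 1, 4, 3, 5, 5, 5]), (87, []), (73, [0, 0, 5, 4, 5, 4, 3, 5, 5]), (16, [4, 1, 0, 5, 5, 4, 3, 5]), (80, [3, 0, 3, 5, 4, 3, 5, 5]), (31, [0, 0]),
    (25, [0, 1, 5, 4, 3, 4, 3]), (69, [0, 1, 3, 0, 4, 5, 4]), (93, []), (84, [0, 3, 0, 4, 3, 5, 5, 3]), (66, [5, 1, 0, 0, 4, 3, 4, 5]), (41, [1, 1, 1, 3, 5, 5]),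
    (72, [1, 0, 4, 3, 4, 3, 5, 5]), (14, [3, 0, 1, 5, 4, 3, 5, 5, 5]), (48, [0, 1, 0, 4, 3, 5, 5, 3]), (5, [1, 0, 5, 5, 4, 3]), (85, [1, 0, 0, 5, 4, 5, 4]), (96, [1, 0, 4, 3, 4, 5, 5, 5]),
    (71, [5, 4, 1, 0, 4, 3, 4, 5]), (67, [5, 1, 0, 0, 4, 5, 5, 5]), (13, [1, 0, 5, 5, 4, 3]), (21, [3, 0, 3, 4, 3, 4, 3, 5, 5]), (58, [0, 0, 3, 5, 5, 3]), (76, [0, 0, 1, 4, 4, 5, 3]),
    (42, [3, 0, 1, 5, 4, 5, 5, 5]), (10, [0, 1, 0, 5, 4, 3]), (65, [0, 1, 0, 4, 4, 5, 4, 5]), (20, [3, 0, 1, 4, 5, 3, 5, 5, 5]), (49, [0, 1, 0, 4, 5, 3, 5, 5, 5]), (50, [1, 0, 4, 5, 4, 5, 3, 5, 5]),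
    (89, [5, 3, 1, 5, 5, 3]), (59, [4, 1, 0, 0, 3, 4, 3, 4, 3, 5]), (39, [0, 0, 1, 4, 3, 4, 5, 5]), (86, [4, 1, 0, 0, 4, 5, 3]), (78, [4, 1, 0, 3, 5, 3, 5, 5]), (54, [4, 0, 1, 4, 4, 4, 5, 3, 5, 5]),
    (92, [5, 3, 1, 5, 3, 5]), (83, [3, 0, 0, 5, 5, 3, 5, 5]), (98, [3, 0, 1, 4, 5, 5, 5]), (94, [3, 0, 0, 5, 3, 4, 3, 5]), (95, [3, 1, 3, 5, 4, 3, 5, 5, 5]), (82, [1, 1, 0, 4, 4, 3, 5]),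
    (90, [4, 1, 5, 3, 4, 5, 5, 5]), (91, [4, 1, 3, 5, 4, 3, 5]), (60, [3, 0, 0, 5, 3, 4, 3, 5, 5]), (51, [0, 0, 0, 4, 4, 5, 4]), (88, [3, 0, 1, 3, 5, 4, 3, 5]), (97, [0, 4, 1, 0, 4, 4, 5, 4, 3]),
    (99, [3, 0, 1, 4, 4, 3, 5, 5, 5]), (57, [1, 1, 3, 5, 4, 5, 5, 5]), (0, [5]), (7, []), (13, []), (4, [1, 1, 4, 5]),
    (3, [3, 1, 1, 0, 5, 3, 4, 3, 5, 5]), (23, []), (6, [1, 1, 0, 4, 4, 3]), (29, []), (33, []), (14, [0, 0, 4, 4, 5, 4, 3, 5]),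
    (31, [1, 1, 1, 4, 3, 5, 3, 5]), (42, []), (46, []), (49, []), (52, []), (28, [0, 0, 1, 0]),
    (43, [0, 4, 1, 4, 3, 5, 5, 3]), (17, [1, 1, 0, 4, 5, 3, 5, 5, 5]), (53, [3, 0, 0, 1, 3]), (48, [3, 0, 1, 3, 5, 4, 5, 5, 5]), (36, [0, 0, 4, 5, 4, 5, 5, 5]), (61, [3, 0, 4, 5, 4, 5, 3]),
    (22, [1, 1, 0, 4, 4, 5, 3, 5, 5]), (38, [0, 3, 0, 5, 4, 5]), (27, [1, 1, 1, 4, 5, 4, 5, 5, 5]), (69, []), (20, [1, 1, 0, 4, 4, 5, 3]), (24, [1, 1, 1, 4, 5, 4, 5, 5, 5]),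
    (73, []), (74, [3, 5, 3, 5, 5]), (40, [4, 1, 4, 5, 5, 3, 5, 5, 5]), (44, [0, 3, 0, 4, 3, 5, 3, 4, 5, 5, 5]), (35, [0, 3, 0, 4, 5, 3, 5]), (55, [1, 1, 4, 5]),
    (8, [3, 0, 0, 5, 3, 5, 3, 4, 5, 5]), (30, [0, 0, 5, 4, 5, 4, 3]), (59, [0, 1, 1, 5]), (47, [3, 0, 1, 5, 4, 5]), (79, [0, 1, 0, 5, 3, 4, 3, 5, 5]), (72, [3, 1, 5, 3, 5, 3, 4, 5]),
    (32, [4, 4, 4, 5, 3, 5, 5, 5]), (25, [4, 1, 0, 5, 3, 4, 3, 5, 5, 5]), (84, []), (18, [0, 3, 0, 0, 5, 5, 4, 3]), (75, [1, 0, 4, 5, 4, 3, 5, 5]), (81, [0, 4, 1, 0, 5, 4, 5, 4, 5, 5, 5]),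
    (77, [0, 1, 4, 3, 5]), (45, [1, 1, 1, 5, 5, 4, 3, 5, 5, 5]), (65, [0, 0, 5, 4, 5, 4, 3]), (63, [0, 0, 4, 4, 5, 4, 5, 5, 5]), (19, [4, 1, 0, 3, 5, 3]), (88, []),
    (64, [1, 1, 1, 5, 5, 4, 3, 5]), (16, [4, 1, 0, 3, 5, 3, 5, 5]), (89, []), (34, [4, 1, 0, 0, 4, 5, 3, 5]), (56, [4, 1, 0, 4, 5, 3]), (68, [3, 0, 1, 4, 5, 4, 5]),
    (93, [1, 0, 0, 4]), (26, [3, 0, 0, 4, 4, 5, 4]), (94, []), (96, []), (62, [1, 5, 4, 5, 3]), (2, [1, 0, 4, 5, 4, 5, 3]),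
    (9, [0, 1, 0, 4, 5, 5]), (50, [3, 5, 3, 5, 5]), (85, [0, 4, 1, 0, 4, 4, 3]), (41, [3, 1, 1, 0, 4, 4, 4, 5, 3, 5]), (71, [5, 4, 1, 0, 3, 5, 3]), (67, [5, 1, 0, 0, 3, 5, 4, 5, 5]),
    (12, [1, 0, 5, 5, 4, 3]), (83, [0, 3, 0, 4, 5, 4, 3, 5, 5]), (58, [3, 0, 0, 1, 3, 5, 4, 3, 5]), (78, [0, 1, 0, 4, 5, 5]), (1, [3, 5, 3, 5, 5]), (10, [0, 1, 0, 3, 5, 4, 5, 5]),
    (11, [1, 1, 0, 3, 4, 3, 4, 3, 5, 5, 5]), (70, [0, 1, 3, 0, 3, 5, 4]), (15, [3, 1, 4, 5, 3, 4, 5, 5]), (5, [3, 0, 0, 5, 4, 5, 4, 5, 5]), (80, [0, 0, 4, 5, 3, 5, 5]), (37, [4, 0, 3, 0, 5, 3, 5, 3, 4, 5]),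
    (91, [0, 3, 1, 4, 3, 4, 5, 5, 5]), (57, [1, 0, 0, 4, 4, 5, 4, 3]), (76, [3, 0, 0, 4, 4, 4, 5, 3, 5, 5]), (54, [0, 4, 1, 0, 4, 5, 4]), (99, [1, 1, 1, 5, 5, 4, 3, 5, 5, 5]), (21, [1, 1, 5, 4]),
    (51, [3]), (66, [1, 4, 3, 5, 3, 4, 5, 5, 5]), (95, [0, 1, 4, 5, 5, 3, 5, 5, 5]), (82, [1, 0, 0, 3, 5, 4, 3]), (90, [4, 1, 0, 0, 5, 3, 4, 3]), (39, [4, 1, 0, 4, 5, 4, 3, 5, 5]),
    (60, [3, 0, 0, 4, 4, 5, 4]), (98, [0, 1, 3, 0, 5, 5, 3, 5]), (87, [3, 0, 1, 3, 5, 4, 3, 5]), (97, [1, 1, 0, 5, 4, 3, 5, 5, 5]), (92, [0, 4, 1, 0, 4, 3, 5, 5, 3, 5, 5, 5]), (86, [1, 1, 1, 5, 5, 4, 3, 5, 5, 5])]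

/-- Level 1 of the chain. -/
def lev1 : Lev where
  b := 1
  gens := [0, 1, 3, 4, 5]
  words := [
    [], [0], [1], [0, 0], [1, 0], [3, 0], [0, 1], [1, 1],
    [3, 1], [4, 1], [0, 0, 0], [1, 0, 0], [3, 0, 0], [0, 1, 0], [1, 1, 0], [4, 1, 0],
    [0, 3, 0], [1, 3, 0], [0, 0, 1], [3, 0, 1], [4, 0, 1], [0, 1, 1], [1, 1, 1], [0, 3, 1],
    [5, 3, 1], [0, 4, 1], [4, 1, 0, 0], [5, 1, 0, 0], [0, 3, 0, 0], [0, 0, 1, 0], [3, 1, 1, 0], [0, 4, 1, 0],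
    [5, 4, 1, 0], [4, 0, 3, 0], [0, 1, 3, 0], [3, 0, 0, 1]]
  cert := [
    (1, []), (3, []), (6, []), (10, []), (13, []), (16, []),
    (18, []), (21, []), (23, []), (25, []), (11, [5, 5, 4, 3, 5, 5]), (9, [5, 4, 3, 5]),
    (28, []), (29, []), (12, [4, 4, 3, 5]), (31, []), (2, [4, 3, 4]), (34, []),
    (15, [3, 4, 3, 4, 3]), (26, [4, 3, 5, 3, 5, 5]), (20, [5, 3, 4, 3, 5, 5, 5]), (22, [5, 3, 5, 3, 4]), (30, [5, 5, 4, 3, 5, 5]), (35, [4, 4, 3, 5, 5, 5]),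
    (32, [3, 5, 3, 4]), (0, [3]), (14, [5, 4, 3, 4, 3, 5]), (33, [5, 4, 3]), (17, [3, 5, 5, 3, 5, 5, 5]), (24, [5, 4, 5, 4]),
    (8, [4, 3, 4, 3, 5]), (5, []), (27, [3, 5, 3, 4, 5, 5, 5]), (4, [5, 5, 4, 3, 5]), (19, [3, 5, 5, 4, 3, 5, 5]), (7, [4, 5, 5]),
    (2, []), (4, []), (7, []), (11, []), (14, []), (17, []),
    (12, [4, 3, 5, 3, 4, 5, 5, 5]), (22, []), (8, [5, 3, 4]), (3, [5, 4, 5, 3]), (23, [4, 5, 3, 5, 5]), (18, [3, 5, 5, 3, 5]),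
    (0, [5, 4, 5, 4, 5]), (28, [5, 4, 5, 4, 3, 5]), (24, [3, 4, 5, 5]), (5, [5, 5, 3]), (6, [4, 5, 3, 4, 5, 5, 5]), (13, [3, 4, 3]),
    (25, [4, 4, 5, 4]), (29, [3, 4, 3, 4, 3, 5]), (15, [3, 5, 5, 5]), (27, [5, 3, 5, 5, 4, 3, 5, 5, 5]), (16, [4, 3, 5, 5]), (31, [4, 3, 4, 3, 5, 5]),
    (30, [5, 3, 4, 3, 5]), (19, [4, 4, 5, 4, 3, 5, 5]), (33, [5, 3, 5, 5, 5]), (10, [4, 4, 5, 4, 3]), (32, [3, 4, 5]), (9, [5, 5, 4, 3, 5, 5, 5]),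
    (34, [3, 4, 3, 5]), (26, [5, 4, 5, 4, 3, 5, 5, 5]), (20, [4, 3, 5, 5, 3, 5, 5, 5]), (21, [4, 4, 3]), (35, [4, 5, 3, 5]), (1, [4, 4, 5, 3, 5, 5, 5]),
    (0, [3]), (5, []), (8, []), (12, []), (4, [3, 5, 5, 3]), (1, []),
    (19, []), (7, [4, 4, 4, 5, 3, 5]), (2, []), (9, [3, 5, 5, 3, 5, 5]), (24, [3, 5, 5, 4, 3, 5]), (21, [5, 3, 5, 3, 4, 5]),
    (3, []), (22, [4, 4, 5, 4, 3, 5, 5]), (30, []), (25, [4, 5, 4, 5, 3, 5]), (20, [5, 5, 4, 3]), (31, [3, 5, 4, 5]),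
    (35, []), (6, []), (16, [5, 3, 5, 3, 4, 5]), (11, [5, 5, 4, 3]), (13, [4, 3, 5, 5, 3, 5, 5]), (23, [3, 5, 4, 5, 5]),
    (10, [3, 4, 3, 4, 3, 5, 5]), (15, [5, 3, 4, 3, 5]), (26, [3]), (27, [3, 5, 4, 5, 5]), (28, [5, 4, 5, 4, 5, 5]), (29, [3, 5, 5, 3, 5, 5]),
    (14, []), (17, [4, 5, 4, 3]), (32, [5, 3, 5, 5, 5]), (33, [5, 4, 5, 4, 3, 5, 5]), (34, [5, 3, 5, 5, 5]), (18, []),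
    (0, [4]), (2, [3, 4, 3, 4, 3, 5, 5, 5]), (9, []), (10, [4, 3, 5, 5]), (15, []), (11, [5, 4, 5, 3]),
    (20, []), (22, [5, 3, 5, 5, 4, 3, 5, 5, 5]), (5, [3, 4, 5]), (4, [4, 5, 4, 3, 5, 5, 5]), (24, [5, 4, 5, 4, 3, 5, 5, 5]), (26, []),
    (17, [5, 5, 3]), (18, [3, 5, 3]), (27, [4, 5, 4, 3]), (31, [4, 4, 5, 4, 3, 5]), (33, []), (25, [3]),
    (35, [4, 3, 5, 3]), (6, [4, 4, 5, 4, 5]), (29, [5, 4, 5, 5, 5]), (32, [4, 4, 5, 4, 5, 5]), (23, [3, 5, 3, 5, 5, 5]), (13, [4, 4, 4, 5, 3, 5, 5]),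
    (21, [4, 5, 4, 3, 5, 5]), (8, [4, 3, 4, 5]), (12, [3, 4, 3, 4, 3, 5]), (3, [3, 4, 3, 4, 3, 5]), (7, [5, 4, 5, 4, 5, 5]), (16, [4, 3, 5, 5, 3, 5]),
    (1, [4, 4, 5, 4, 3, 5]), (30, [5, 5, 3]), (14, [3, 5, 4, 5, 5]), (34, [5, 5, 3]), (19, [5, 5, 3, 5, 5, 5]), (28, [4, 5, 4, 5]),
    (0, [5]), (2, [4, 3, 5, 3, 5, 5, 5]), (9, [3, 5, 3, 5, 5]), (3, [3, 4, 5, 5, 5]), (12, [3, 5, 5, 4, 3]), (11, [4, 5, 3, 4, 5]),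
    (20, [5, 3, 5, 5, 5]), (22, [5, 3, 5, 5, 4, 3, 5]), (24, []), (17, [5, 4, 5, 5]), (5, [4, 3, 5, 3]), (27, []),
    (4, [3, 5, 5, 4, 3, 5]), (13, [5, 5, 4, 3, 5, 5]), (26, [4, 5, 4, 3]), (32, []), (33, [3, 5, 5, 3, 5, 5, 5]), (1, [4, 4, 5, 4, 3, 5, 5]),
    (35, [5, 4, 3, 4, 3, 5, 5]), (29, [4, 5, 4, 3]), (6, [3, 5, 3, 5]), (31, [4, 5, 3, 4]), (7, [4, 5, 4, 5, 3, 5, 5, 5]), (18, [4, 3, 5, 5, 3, 5]),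
    (21, [4, 5, 4, 5, 3]), (30, [3, 5, 5, 4, 3, 5, 5, 5]), (15, [4, 5, 5, 3]), (10, [4, 3, 5, 3, 4, 5]), (23, [3, 5, 3, 4, 5]), (16, [4, 5, 5]),
    (25, [3, 5, 5, 5]), (8, [5, 4, 5, 3, 5]), (14, [3, 4, 3, 5, 5]), (19, [4, 4, 3, 5, 5, 5]), (34, [5, 5, 4, 3, 5, 5]), (28, [5, 4, 3, 5, 5, 5])]

/-- Level 2 of the chain. -/
def lev2 : Lev where
  b := 38
  gens := [3, 4, 5]
  words := [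
    [], [3], [4], [4, 3], [5, 3], [3, 4], [5, 4], [3, 4, 3],
    [4, 4, 3], [5, 4, 3], [3, 5, 3], [4, 5, 3], [5, 5, 3], [4, 3, 4], [5, 3, 4], [3, 5, 4],
    [4, 5, 4], [4, 3, 4, 3], [5, 3, 4, 3], [3, 5, 4, 3], [4, 5, 4, 3], [5, 5, 4, 3], [4, 3, 5, 3], [4, 4, 5, 3],
    [5, 4, 5, 3], [3, 5, 5, 3], [4, 5, 5, 3], [3, 5, 3, 4], [4, 5, 3, 4], [4, 4, 5, 4], [5, 4, 5, 4], [3, 4, 3, 4, 3],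
    [5, 4, 3, 4, 3], [4, 4, 5, 4, 3], [5, 4, 5, 4, 3], [3, 5, 5, 4, 3], [4, 4, 4, 5, 3], [4, 5, 4, 5, 3], [4, 3, 5, 5, 3], [4, 3, 5, 3, 4],
    [5, 3, 5, 3, 4], [5, 3, 5, 5, 4, 3]]
  cert := [
    (1, []), (0, []), (5, []), (7, []), (10, []), (2, []),
    (15, []), (3, []), (11, []), (19, []), (4, []), (8, []),
    (25, []), (16, [5, 5, 5]), (27, []), (6, []), (13, [5]), (31, []),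
    (20, [5, 5]), (9, []), (18, [5, 5]), (35, []), (32, [5, 5]), (26, []),
    (28, [5]), (12, []), (23, []), (14, []), (24, [5, 5, 5]), (29, [5, 5]),
    (40, [5, 5]), (17, []), (22, [5, 5]), (34, [5, 5, 5]), (33, [5]), (21, []),
    (37, []), (36, []), (41, [5, 5]), (39, [5, 5]), (30, [5, 5]), (38, [5, 5]),
    (2, []), (3, []), (5, [5]), (8, []), (11, []), (13, []),
    (16, []), (17, []), (18, [5, 5]), (20, []), (22, []), (23, []),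
    (26, []), (24, [5, 5, 5]), (28, []), (21, [5, 5]), (29, []), (15, [5, 5, 5]),
    (6, [5, 5, 5]), (27, [5, 5]), (33, []), (34, [5, 5, 5]), (7, [5, 5, 5]), (36, []),
    (37, []), (38, []), (32, [5, 5, 5]), (39, []), (31, []), (1, [5, 5, 5]),
    (0, [5, 5, 5]), (40, [5, 5, 5]), (35, [5]), (4, [5]), (10, [5]), (19, [5]),
    (9, [5, 5, 5]), (30, [5]), (41, [5]), (12, [5]), (25, [5]), (14, [5, 5, 5]),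
    (0, [5]), (4, []), (6, []), (9, []), (12, []), (14, []),
    (16, [5, 5]), (18, []), (17, [5, 5]), (21, []), (1, [5, 5, 5]), (24, []),
    (10, [5]), (23, [5, 5, 5]), (7, []), (20, [5, 5]), (30, []), (32, []),
    (5, []), (27, []), (34, []), (33, [5, 5, 5]), (28, [5, 5, 5]), (35, [5, 5]),
    (31, []), (25, [5, 5, 5]), (15, [5, 5]), (40, []), (37, []), (22, []),
    (2, [5, 5]), (39, [5, 5, 5]), (36, [5, 5, 5]), (3, [5]), (26, []), (41, []),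
    (8, [5, 5, 5]), (29, [5]), (19, [5, 5]), (11, [5]), (38, [5, 5]), (13, [5, 5, 5])]

/-- Level 3 of the chain. -/
def lev3 : Lev where
  b := 2
  gens := [5]
  words := [
    [], [5], [5, 5], [5, 5, 5]]
  cert := [
    (1, []), (2, []), (3, []), (0, [])]

/-- Words in the stabiliser of `0` carrying `1` to the points of its suborbit. -/
def suborbitA : List (List ℕ) := [
    [], [3, 0, 1], [0, 0, 1], [0, 0, 1, 0], [1, 1], [0, 1], [3, 0, 0, 1], [0, 3, 1],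
    [4, 0, 3, 0], [0, 1, 3, 0], [0, 3, 0, 0], [0, 3, 0], [4, 0, 1], [1, 1, 1], [4, 1, 0], [0],
    [3, 0, 0], [0, 4, 1, 0], [0, 0, 0], [5, 1, 0, 0], [1, 1, 0], [1, 3, 0], [0, 1, 0], [3, 1],
    [3, 1, 1, 0], [5, 4, 1, 0], [3, 0], [0, 1, 1], [5, 3, 1], [4, 1, 0, 0], [1], [1, 0],
    [4, 1], [0, 0], [0, 4, 1], [1, 0, 0]]

/-- Words in the stabiliser of `0` carrying `37` to the points of its suborbit. -/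
def suborbitB : List (List ℕ) := [
    [], [4, 4, 4, 0], [0, 4], [1, 5], [5, 3, 1], [1, 5, 0], [4, 0], [1, 5, 1],
    [1, 0, 0], [4, 1, 0], [5, 0, 0], [1, 0], [3, 1, 5], [0, 0, 0], [3, 1, 0], [1, 1],
    [3, 5, 1], [3, 1], [4, 1, 5], [5, 5], [3, 5, 0], [4, 0, 0], [1, 4], [5, 0, 1],
    [4, 5, 0], [0, 5, 4, 0], [1, 3, 1], [0, 5, 5], [0], [5], [0, 0], [0, 5, 1],
    [3, 4, 1], [4, 1], [5, 3, 1, 0], [1], [3, 1, 4], [3, 0], [0, 0, 4], [3, 4, 0, 0],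
    [5, 1], [4, 5, 5], [3, 5], [4, 0, 1], [0, 1, 1], [4, 4, 0], [1, 1, 1], [1, 4, 0],
    [5, 0], [4], [1, 1, 0], [4, 5, 0, 0], [0, 0, 5], [4, 3, 1], [3, 0, 0, 1], [4, 0, 0, 0],
    [0, 5], [0, 0, 1], [1, 4, 1], [0, 1], [5, 1, 4], [5, 4, 0], [5, 5, 0]]

/-- Every element is a product of two elements of order dividing five. -/
def kill : List (List ℕ × List ℕ) := [
  ([3, 2, 5, 5], [3, 2, 5, 5, 3, 2, 5, 5, 3, 2, 5, 5, 3, 2, 5, 5, 0]),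
  ([5, 5, 3, 2], [5, 5, 3, 2, 5, 5, 3, 2, 5, 5, 3, 2, 5, 5, 3, 2, 1]),
  ([1, 2, 2, 4, 3], [1, 2, 2, 4, 3, 1, 2, 2, 4, 3, 1, 2, 2, 4, 3, 1, 2, 2, 4, 3, 2]),
  ([4, 2, 4], [4, 2, 4, 4, 2, 4, 4, 2, 4, 4, 2, 4, 3]),
  ([4, 4, 2, 4], [4, 4, 2, 4, 4, 4, 2, 4, 4, 4, 2, 4, 4, 4, 2, 4, 4]),
  ([3, 2, 5, 2], [3, 2, 5, 2, 3, 2, 5, 2, 3, 2, 5, 2, 3, 2, 5, 2, 5])]

end Cfsg.Agent.JTwoPerm
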